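import Groth.Prelude.Def_AGF
import Groth.Prelude.Def_W4bk4grossh111Obs
import Groth.Agent.L08.Borel.Factor

/-!
# Global functions on a quotient are the invariant functions
-/

set_option autoImplicit false
set_option backward.isDefEq.respectTransparency.types false

universe u

open CategoryTheory CategoryTheory.Limits MonoidalCategory CartesianMonoidalCategory MonObj GrpObj AlgebraicGeometry

noncomputable section

namespace Groth.L16.ReductiveQuot

/-- evaluation of the universal variable at a function -/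
def evMap {T : Scheme.{u}} (f : Γ(T, ⊤)) :
    CommRingCat.of (MvPolynomial PUnit.{u + 1} (ULift.{u} ℤ)) ⟶ Γ(T, ⊤) :=
  CommRingCat.ofHom (MvPolynomial.eval₂Hom ((Int.castRingHom _).comp ULift.ringEquiv.toRingHom) fun _ => f)

theorem evMap_X {T : Scheme.{u}} (f : Γ(T, ⊤)) : evMap f (MvPolynomial.X PUnit.unit) = f := by
  simp [evMap]

theorem evMap_comp {T T' : Scheme.{u}} (g : T ⟶ T') (f : Γ(T', ⊤)) : evMap f ≫ g.appTop = evMap (g.appTop f) := by
  refine CommRingCat.hom_ext (MvPolynomial.ringHom_ext (fun c => ?_) fun _ => ?_)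
  · simp [evMap]
  · simp [evMap]

/-- the morphism to the affine line of a function -/
def toLine {T : Scheme.{u}} (f : Γ(T, ⊤)) : T ⟶ Spec (CommRingCat.of (MvPolynomial PUnit.{u + 1} (ULift.{u} ℤ))) :=
  T.toSpecΓ ≫ Spec.map (evMap f)

theorem comp_toLine {T T' : Scheme.{u}} (g : T ⟶ T') (f : Γ(T', ⊤)) : g ≫ toLine f = toLine (g.appTop f) := by
  simp [toLine, Scheme.toSpecΓ_naturality_assoc, ← Spec.map_comp, evMap_comp]

/-- the function of a morphism to the affine line -/
def ofLine {T : Scheme.{u}} (g : T ⟶ Spec (CommRingCat.of (MvPolynomial PUnit.{u + 1} (ULift.{u} ℤ)))) : Γ(T, ⊤) :=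
  g.appTop ((Scheme.ΓSpecIso _).inv (MvPolynomial.X PUnit.unit))

theorem ofLine_toLine {T : Scheme.{u}} (f : Γ(T, ⊤)) : ofLine (toLine f) = f := by
  have e : (toLine f).appTop = (Scheme.ΓSpecIso _).hom ≫ evMap f := by
    rw [toLine, Scheme.Hom.comp_appTop, Scheme.toSpecΓ_appTop, Scheme.ΓSpecIso_naturality]
  rw [ofLine, e, ← CommRingCat.comp_apply, Iso.inv_hom_id_assoc, evMap_X]

theorem ofLine_comp {T T' : Scheme.{u}} (g : T ⟶ T') (d : T' ⟶ _) : ofLine (g ≫ d) = g.appTop (ofLine d) := by
  simp [ofLine]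

variable {k : Type u} [Field k] {G H : Over (Spec (CommRingCat.of k))} [GrpObj G] [GrpObj H] {i : H ⟶ G}
  {X : Over (Spec (CommRingCat.of k))} {a : AlgGrp.Action G X} {o : 𝟙_ (Over (Spec (CommRingCat.of k))) ⟶ X}

/-- the functions on a quotient inject into those on the group -/
theorem appTop_injective (hX : AGF.IsQuotient i X a o) [LocallyOfFiniteType G.hom] :
    Function.Injective (a.orbitMap o).left.appTop := by
  haveI := Groth.L08.Borel.effectiveEpi_orbitMap hX
  intro f f' e
  have h : (a.orbitMap o).left ≫ toLine f = (a.orbitMap o).left ≫ toLine f' := by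
    rw [comp_toLine, comp_toLine, e]
  rw [← ofLine_toLine f, ← ofLine_toLine f', (cancel_epi _).1 h]

/-- the image consists of the invariant functions -/
theorem appTop_range (hX : AGF.IsQuotient i X a o) [LocallyOfFiniteType G.hom] (f : Γ(G.left, ⊤)) :
    f ∈ Set.range (a.orbitMap o).left.appTop ↔ AGF.IsRTransInv i f := by
  haveI := Groth.L08.Borel.effectiveEpi_orbitMap hX
  have sq := hX.2.2.2
  constructor
  · rintro ⟨g, rfl⟩
    show (((G ◁ i) ≫ μ[G]) ≫ a.orbitMap o).left.appTop g = (fst G H ≫ a.orbitMap o).left.appTop g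
    rw [sq.w]
  · intro hf
    have sq' := sq.map (Over.forget _)
    obtain ⟨d, hd⟩ : ∃ d : X.left ⟶ _, (a.orbitMap o).left ≫ d = toLine f := by
      refine ⟨EffectiveEpi.desc (a.orbitMap o).left (toLine f) fun {T} p q e => ?_, EffectiveEpi.fac _ _ _⟩
      obtain ⟨l, h1, h2⟩ := sq'.exists_lift p q e
      have key : (fst G H).left ≫ toLine f = ((G ◁ i) ≫ μ[G]).left ≫ toLine f := by
        rw [comp_toLine, comp_toLine, hf]
      change l ≫ (fst G H).left = p at h1
      change l ≫ ((G ◁ i) ≫ μ[G]).left = q at h2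
      rw [← h1, ← h2]
      exact (Category.assoc _ _ _).trans ((congrArg (l ≫ ·) key).trans (Category.assoc _ _ _).symm)
    exact ⟨ofLine d, by rw [← ofLine_comp, hd, ofLine_toLine]⟩

end Groth.L16.ReductiveQuot
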